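import Cfsg.Agent.Lib.Helper89.TT54.Defs
import Cfsg.Agent.Lib.Helper89.SU32

/-! # S5559 farm (helper89): explicit elements of `SU_3(2)` over the concrete field `H4` -/

set_option autoImplicit false

namespace Cfsg.Agent.Lib.Helper89.TT54

open Cfsg.Agent.Lib.Helper27 Cfsg.Agent.Lib.Helper89.SU32

/-- `SU_3(2)` over the concrete field with four elements -/
abbrev S3 := ↥(Cfsg.SU 3 H4 2)

/-- explicit form of "`M` preserves the hermitian form" -/
def Uni (M : Matrix (Fin 3) (Fin 3) H4) : Prop :=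
  ∀ a b c a' b' c' : H4,
    (M 0 0 * a + M 0 1 * b + M 0 2 * c) * ((M 0 0 * a' + M 0 1 * b' + M 0 2 * c') *
        (M 0 0 * a' + M 0 1 * b' + M 0 2 * c')) +
      (M 1 0 * a + M 1 1 * b + M 1 2 * c) * ((M 1 0 * a' + M 1 1 * b' + M 1 2 * c') *
        (M 1 0 * a' + M 1 1 * b' + M 1 2 * c')) +
      (M 2 0 * a + M 2 1 * b + M 2 2 * c) * ((M 2 0 * a' + M 2 1 * b' + M 2 2 * c') *
        (M 2 0 * a' + M 2 1 * b' + M 2 2 * c')) = a * (a' * a') + b * (b' * b') + c * (c' * c')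

instance (M : Matrix (Fin 3) (Fin 3) H4) : Decidable (Uni M) := by unfold Uni; infer_instance

/-- explicit determinant -/
def det3 (M : Matrix (Fin 3) (Fin 3) H4) : H4 :=
  M 0 0 * M 1 1 * M 2 2 - M 0 0 * M 1 2 * M 2 1 - M 0 1 * M 1 0 * M 2 2 + M 0 1 * M 1 2 * M 2 0 +
    M 0 2 * M 1 0 * M 2 1 - M 0 2 * M 1 1 * M 2 0

/-- an element of `SU_3(2)` from an explicit matrix -/
def mkS (M : Matrix (Fin 3) (Fin 3) H4) (hdet : det3 M = 1) (hU : Uni M) : S3 :=
  ⟨⟨M, by rw [Matrix.det_fin_three]; exact hdet⟩, by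
    intro u v
    have := hU (u 0) (u 1) (u 2) (v 0) (v 1) (v 2)
    simp only [Cfsg.hermForm, Cfsg.slToMat, Matrix.mulVec, dotProduct, Fin.sum_univ_three, pow_two]
    exact this⟩

theorem mkS_coe (M : Matrix (Fin 3) (Fin 3) H4) (hdet : det3 M = 1) (hU : Uni M) :
    (((mkS M hdet hU : S3) : Matrix.SpecialLinearGroup (Fin 3) H4) : Matrix (Fin 3) (Fin 3) H4) = M :=
  rfl

/-- equality in `SU_3(2)` is equality of matrices -/
theorem S3_ext {a b : S3} (h : ∀ i j : Fin 3,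
    ((a : Matrix.SpecialLinearGroup (Fin 3) H4) : Matrix (Fin 3) (Fin 3) H4) i j =
    ((b : Matrix.SpecialLinearGroup (Fin 3) H4) : Matrix (Fin 3) (Fin 3) H4) i j) : a = b :=
  Subtype.ext (Subtype.ext (by ext i j; exact h i j))

def xM : Matrix (Fin 3) (Fin 3) H4 := !![1, 0, 0; 0, H4.w, 0; 0, 0, H4.u]
def yM : Matrix (Fin 3) (Fin 3) H4 := !![0, 0, 1; 1, 0, 0; 0, 1, 0]
def cM : Matrix (Fin 3) (Fin 3) H4 := !![H4.w, 0, 0; 0, H4.w, 0; 0, 0, H4.w]
def dM : Matrix (Fin 3) (Fin 3) H4 := !![1, 0, 0; 0, 0, 1; 0, 1, 0]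
def u1M : Matrix (Fin 3) (Fin 3) H4 := !![1, 1, 1; 1, H4.w, H4.u; 1, H4.u, H4.w]
def u2M : Matrix (Fin 3) (Fin 3) H4 := !![1, H4.u, H4.u; H4.w, H4.w, H4.u; H4.w, H4.u, H4.w]

set_option maxRecDepth 100000 in
def xS : S3 := mkS xM (by decide) (by decide)
set_option maxRecDepth 100000 in
def yS : S3 := mkS yM (by decide) (by decide)
set_option maxRecDepth 100000 in
def cS : S3 := mkS cM (by decide) (by decide)
set_option maxRecDepth 100000 in
def dS : S3 := mkS dM (by decide) (by decide)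
set_option maxRecDepth 100000 in
def u1S : S3 := mkS u1M (by decide) (by decide)
set_option maxRecDepth 100000 in
def u2S : S3 := mkS u2M (by decide) (by decide)

/-- the subgroup `3^(1+2) : 2` -/
def N0 : Subgroup S3 := Subgroup.closure {xS, yS, dS}

end Cfsg.Agent.Lib.Helper89.TT54
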